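import Groth.Agent.DivCentreLib.Residue
import Groth.Agent.AbRegExtLib.Graph
import Groth.Agent.AbRegExtLib.Global
import Groth.Agent.WeilExtLib.Codim
import Groth.Agent.WeilExtLib.Group
import Groth.Agent.VarDimLib.Basic
import Groth.Agent.ModifLib.Join
import Groth.Agent.NagataCompLib.Nagata
import Groth.Agent.MiscFlat6.NormalLowDim
import Groth.Agent.S1617
import Groth.Agent.GeomIrrLib.Basic

/-!
# A model on which the centre of a divisorial valuation is a divisor
-/

set_option autoImplicit false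
set_option linter.style.haveILetI false
set_option backward.isDefEq.respectTransparency false
set_option backward.isDefEq.respectTransparency.types false
set_option maxHeartbeats 1000000

universe u

open CategoryTheory CategoryTheory.Limits AlgebraicGeometry TopologicalSpace

noncomputable section

namespace DivCentre

variable {k : Type u} [Field k]

/-- The point of affine space given by algebraically independent elements of a field is the generic point. -/
theorem apply_eq_of_algebraicIndependent {F : Type u} [Field F] [Algebra k F] {n : Type u} (a : n → F)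
    (ha : AlgebraicIndependent k a) (z : Spec (CommRingCat.of F) ⟶ 𝔸(n; Spec (CommRingCat.of k)))
    (hz : z ≫ 𝔸(n; Spec (CommRingCat.of k)) ↘ Spec (CommRingCat.of k) =
      Spec.map (CommRingCat.ofHom (algebraMap k F)))
    (hza : ∀ i, z.appTop (AffineSpace.coord _ i) = (Scheme.ΓSpecIso (CommRingCat.of F)).inv (a i)) :
    z (IsLocalRing.closedPoint F) =
      (AffineSpace.SpecIso n (CommRingCat.of k)).inv (⟨⊥, Ideal.isPrime_bot⟩ : PrimeSpectrum (MvPolynomial n k)) := by
  have e : z = Spec.map (CommRingCat.ofHom (MvPolynomial.aeval a).toRingHom) ≫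
      (AffineSpace.SpecIso n (CommRingCat.of k)).inv := by
    refine AffineSpace.hom_ext ?_ fun i => ?_
    · rw [hz, Category.assoc, AffineSpace.SpecIso_inv_over, ← Spec.map_comp, ← CommRingCat.ofHom_comp]
      congr 2
      exact (MvPolynomial.aeval a).comp_algebraMap.symm
    · rw [hza, Scheme.Hom.comp_appTop, CommRingCat.comp_apply, AffineSpace.SpecIso_inv_appTop_coord,
        ← CommRingCat.comp_apply, ← Scheme.ΓSpecIso_inv_naturality, CommRingCat.comp_apply]
      exact congrArg _ (MvPolynomial.aeval_X a i).symm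
  rw [e, Scheme.Hom.comp_apply]
  congr 1
  refine PrimeSpectrum.ext ?_
  show Ideal.comap (MvPolynomial.aeval a).toRingHom (IsLocalRing.maximalIdeal F) = ⊥
  rw [IsLocalRing.maximalIdeal_eq_bot, ← RingHom.ker_eq_comap_bot, RingHom.ker_eq_bot_iff_eq_zero]
  exact fun p hp => algebraicIndependent_iff.1 ha p hp

/-- The dimension of the closure of the generic point of affine space. -/
theorem le_dim_closure_generic (r : ℕ) :
    (r : WithBot ℕ∞) ≤ topologicalKrullDim (closure
      ({(AffineSpace.SpecIso (ULift.{u} (Fin r)) (CommRingCat.of k)).inv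
        (⟨⊥, Ideal.isPrime_bot⟩ : PrimeSpectrum (MvPolynomial (ULift.{u} (Fin r)) k))} :
          Set 𝔸(ULift.{u} (Fin r); Spec (CommRingCat.of k)))) := by
  let e := AffineSpace.SpecIso (ULift.{u} (Fin r)) (CommRingCat.of k)
  haveI : IrreducibleSpace (Spec (CommRingCat.of (MvPolynomial (ULift.{u} (Fin r)) k))) :=
    inferInstanceAs (IrreducibleSpace (PrimeSpectrum (MvPolynomial (ULift.{u} (Fin r)) k)))
  have huniv : closure ({e.inv (⟨⊥, Ideal.isPrime_bot⟩ : PrimeSpectrum (MvPolynomial (ULift.{u} (Fin r)) k))} :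
      Set 𝔸(ULift.{u} (Fin r); Spec (CommRingCat.of k))) = Set.univ := by
    refine Set.eq_univ_of_forall fun x => ?_
    have h1 : (⟨⊥, Ideal.isPrime_bot⟩ : PrimeSpectrum (MvPolynomial (ULift.{u} (Fin r)) k)) ⤳ e.hom x :=
      (PrimeSpectrum.le_iff_specializes _ _).1 (OrderBot.bot_le (e.hom x).asIdeal)
    have h2 := h1.map e.inv.continuous
    rw [← Scheme.Hom.comp_apply, e.hom_inv_id] at h2
    exact h2.mem_closure
  rw [huniv, IsHomeomorph.topologicalKrullDim_eq _ (Homeomorph.Set.univ _).isHomeomorph,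
    IsHomeomorph.topologicalKrullDim_eq _ (Scheme.homeoOfIso e).isHomeomorph]
  show (r : WithBot ℕ∞) ≤ topologicalKrullDim (PrimeSpectrum (MvPolynomial (ULift.{u} (Fin r)) k))
  rw [PrimeSpectrum.topologicalKrullDim_eq_ringKrullDim, MvPolynomial.ringKrullDim_of_isNoetherianRing,
    ringKrullDim_eq_zero_of_field, zero_add]
  simp

/-- Elements of the residue field at the generic point are values of sections. -/
theorem exists_section_generic {X : Scheme.{u}} [IsIntegral X] (x : X) (hx : x = genericPoint X)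
    (a : X.residueField x) : ∃ (U : X.Opens) (hU : x ∈ U) (s : Γ(X, U)), X.evaluation U x hU s = a := by
  obtain ⟨b, rfl⟩ := X.residue_surjective x a
  obtain ⟨U, hU, s, rfl⟩ := TopCat.Presheaf.exists_germ_eq (F := X.presheaf) b
  exact ⟨U, hU, s, rfl⟩

theorem evaluation_res {X : Scheme.{u}} (x : X) {U U' : X.Opens} (h : U' ≤ U) (hx : x ∈ U') (s : Γ(X, U)) :
    X.evaluation U' x hx (X.presheaf.map (homOfLE h).op s) = X.evaluation U x (h hx) s :=
  congrArg (X.residue x) (X.presheaf.germ_res_apply (homOfLE h) x hx s)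

/-- Values of sections at a field-valued point of an open subscheme. -/
theorem appTop_point {X : Scheme.{u}} {V : X.Opens} {x : X} (hx : x ∈ V) {F : Type u} [Field F]
    (ψ : X.residueField x ⟶ CommRingCat.of F) (ρ : Spec (CommRingCat.of F) ⟶ V.toScheme)
    (hρ : ρ ≫ V.ι = Spec.map ψ ≫ X.fromSpecResidueField x) (a : Γ(X, V)) :
    ρ.appTop (V.topIso.inv a) = (Scheme.ΓSpecIso (CommRingCat.of F)).inv (ψ (X.evaluation V x hx a)) := by
  have e1 : ρ ≫ V.toSpecΓ = Spec.map (X.presheaf.germ V x hx ≫ X.residue x ≫ ψ) := by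
    have e : ρ = Spec.map (X.residue x ≫ ψ) ≫ V.fromSpecStalkOfMem x hx := by
      rw [← cancel_mono V.ι, hρ, Category.assoc, Scheme.Opens.fromSpecStalkOfMem_ι, Spec.map_comp, Category.assoc]
      rfl
    rw [e, Category.assoc, Scheme.Opens.fromSpecStalkOfMem_toSpecΓ, ← Spec.map_comp]
  have e2 := congrArg (fun m => m.appTop ((Scheme.ΓSpecIso Γ(X, V)).inv a)) e1
  simp only [Scheme.Hom.comp_appTop, CommRingCat.comp_apply] at e2
  have e3 : V.toSpecΓ.appTop ((Scheme.ΓSpecIso Γ(X, V)).inv a) = V.topIso.inv a := by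
    rw [Scheme.Opens.toSpecΓ_appTop, ← CommRingCat.comp_apply, Iso.inv_hom_id_assoc]
  rw [e3] at e2
  rw [e2, ← CommRingCat.comp_apply (Scheme.ΓSpecIso Γ(X, V)).inv, ← Scheme.ΓSpecIso_inv_naturality]
  rfl

/-- **The centre of a divisorial valuation becomes a divisor on a suitable model.** -/
theorem exists_model {X Y : Scheme.{u}} (sX : X ⟶ Spec (CommRingCat.of k)) (sY : Y ⟶ Spec (CommRingCat.of k))
    [LocallyOfFiniteType sX] [IsIntegral X] (hXn : Pi1.IsNormalScheme X) [IsProper sY] [IsIntegral Y]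
    (ξ : X) (hξ : ringKrullDim (X.presheaf.stalk ξ) = 1)
    (f : X.PartialMap Y) (hf : f.hom ≫ sY = f.domain.ι ≫ sX) [IsDominant f.hom] :
    ∃ (Y' : Scheme.{u}) (sY' : Y' ⟶ Spec (CommRingCat.of k)) (_ : IsProper sY') (_ : IsIntegral Y') (φ : Y' ⟶ Y)
      (_ : φ ≫ sY = sY') (P : Y'.PartialIso Y) (_ : P.iso.hom ≫ P.target.ι = P.source.ι ≫ φ)
      (g : X.PartialMap Y') (_ : g.hom ≫ sY' = g.domain.ι ≫ sX)
      (_ : (g.compHom φ).toRationalMap = f.toRationalMap) (hξg : ξ ∈ g.domain),
      ringKrullDim (Y'.presheaf.stalk (g.hom ⟨ξ, hξg⟩)) ≤ 1 := by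
  classical
  letI : X.Over (Spec (CommRingCat.of k)) := ⟨sX⟩
  letI : Y.Over (Spec (CommRingCat.of k)) := ⟨sY⟩
  haveI : LocallyOfFiniteType (X ↘ Spec (CommRingCat.of k)) := ‹LocallyOfFiniteType sX›
  haveI : LocallyOfFiniteType (Y ↘ Spec (CommRingCat.of k)) := inferInstanceAs (LocallyOfFiniteType sY)
  haveI : IsLocallyNoetherian X := LocallyOfFiniteType.isLocallyNoetherian sX
  let ηX := genericPoint X
  let ηY := genericPoint Y
  -- generic points and fields
  have hηd : ηX ∈ f.domain := by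
    obtain ⟨x, hx⟩ := f.dense_domain.nonempty
    exact ((genericPoint_spec X).specializes trivial).mem_open f.domain.2 hx
  haveI : Nonempty f.domain := ⟨⟨ηX, hηd⟩⟩
  haveI : IsIntegral f.domain.toScheme := isIntegral_of_isOpenImmersion f.domain.ι
  let ηd : f.domain.toScheme := ⟨ηX, hηd⟩
  have hηd' : genericPoint f.domain.toScheme = ηd :=
    Subtype.ext (genericPoint_eq_of_isOpenImmersion f.domain.ι)
  have hfη : f.hom ηd = ηY := by
    have h1 : f.hom ηd ⤳ ηY := specializes_iff_mem_closure.2 (by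
      have h2 : Set.range f.hom ⊆ closure {f.hom ηd} := by
        rintro _ ⟨z, rfl⟩
        exact (((hηd' ▸ genericPoint_spec f.domain.toScheme).specializes trivial).map f.hom.continuous).mem_closure
      exact closure_minimal h2 isClosed_closure (f.hom.denseRange ηY))
    exact (h1.antisymm ((genericPoint_spec Y).specializes trivial)).eq
  let L := Y.residueField ηY
  let K := X.residueField ηX
  letI : Algebra k L := (Curv2.resMap k Y ηY).toAlgebra
  letI : Algebra k K := (Curv2.resMap k X ηX).toAlgebra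
  let pη : Spec (CommRingCat.of K) ⟶ f.domain.toScheme := WeilExtLib.resTo f.domain (X.fromSpecResidueField ηX)
    fun z => by erw [Scheme.fromSpecResidueField_apply]; exact hηd
  have hpη : pη ≫ f.domain.ι = X.fromSpecResidueField ηX := WeilExtLib.resTo_ι _ _ _
  have hpηp : pη (IsLocalRing.closedPoint K) = ηd := Subtype.ext (by
    rw [← Scheme.Opens.ι_apply, ← Scheme.Hom.comp_apply, hpη]
    exact Scheme.fromSpecResidueField_apply ηX _)
  obtain ⟨ι₀, hι₀⟩ : ∃ ι₀ : Y.residueField ηY ⟶ CommRingCat.of K,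
      Spec.map ι₀ ≫ Y.fromSpecResidueField ηY = pη ≫ f.hom := by
    have h : (pη ≫ f.hom) (IsLocalRing.closedPoint K) = ηY := by
      rw [Scheme.Hom.comp_apply, hpηp]; exact hfη
    rw [← h]
    exact ⟨_, Scheme.descResidueField_stalkClosedPointTo_fromSpecResidueField K Y (pη ≫ f.hom)⟩
  letI : Algebra L K := ι₀.hom.toAlgebra
  haveI : IsScalarTower k L K := IsScalarTower.of_algebraMap_eq fun c => by
    have h : Spec.map (CommRingCat.ofHom (Curv2.resMap k X ηX)) =
        Spec.map (CommRingCat.ofHom (Curv2.resMap k Y ηY) ≫ ι₀) := by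
      rw [Spec.map_comp, GeomIrrLib.specMap_resMap, GeomIrrLib.specMap_resMap]
      show X.fromSpecResidueField ηX ≫ sX = Spec.map ι₀ ≫ Y.fromSpecResidueField ηY ≫ sY
      rw [← Category.assoc (Spec.map ι₀), hι₀, Category.assoc, hf, ← Category.assoc, hpη]
    exact congr($(Spec.map_injective h) c)
  -- the valuation ring
  haveI : IsDomain (X.presheaf.stalk ξ) := (hXn ξ).1
  haveI : IsIntegrallyClosed (X.presheaf.stalk ξ) := (hXn ξ).2
  haveI : IsRegularLocalRing (X.presheaf.stalk ξ) :=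
    MiscFlat6.isRegularLocalRing_of_normal_dim_le_one _ hξ.le
  haveI : ValuationRing (X.presheaf.stalk ξ) :=
    haveI := WeilExtLib.isDiscreteValuationRing_of_regular (X.presheaf.stalk ξ) hξ.le fun h => by
      have := ringKrullDim_eq_zero_of_isField h; rw [hξ] at this; exact one_ne_zero this
    inferInstance
  have hspX : ηX ⤳ ξ := (genericPoint_spec X).specializes trivial
  let eO : X.presheaf.stalk ξ ⟶ K := X.presheaf.stalkSpecializes hspX ≫ X.residue ηX
  have hFη : IsField (X.presheaf.stalk ηX) := Field.toIsField X.functionField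
  have heO : Function.Injective eO := by
    letI := hFη.toField
    exact (RingHom.injective (X.residue ηX).hom).comp
      (IsFractionRing.injective (X.presheaf.stalk ξ) X.functionField)
  have hcov : ∀ x : K, ∃ a b : X.presheaf.stalk ξ, eO b ≠ 0 ∧ x = eO a / eO b := by
    intro x
    obtain ⟨y, rfl⟩ := X.residue_surjective ηX x
    obtain ⟨a, b, hb, e⟩ := IsFractionRing.div_surjective (A := X.presheaf.stalk ξ) (y : X.functionField)
    have hb' : b ≠ 0 := nonZeroDivisors.ne_zero hb
    have hne : eO b ≠ 0 := fun h => hb' (heO (h.trans (map_zero eO.hom).symm))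
    refine ⟨a, b, hne, ?_⟩
    rw [eq_div_iff hne, ← e]
    show X.residue ηX _ * X.residue ηX (X.presheaf.stalkSpecializes hspX b) = X.residue ηX _
    rw [← map_mul]
    refine congrArg (X.residue ηX) ?_
    exact div_mul_cancel₀ _ ((_root_.map_ne_zero_iff _ (IsFractionRing.injective _ X.functionField)).2 hb')
  let O : ValuationSubring K :=
    { eO.hom.range with
      mem_or_inv_mem' := fun x => by
        obtain ⟨a, b, hb, rfl⟩ := hcov x
        obtain ⟨c, hc | hc⟩ := ValuationRing.cond a b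
        · by_cases ha : eO a = 0
          · left; rw [ha, zero_div]; exact eO.hom.range.zero_mem
          · right
            refine ⟨c, ?_⟩
            rw [inv_div, eq_div_iff ha, ← map_mul, mul_comm, hc]
        · left
          refine ⟨c, ?_⟩
          rw [eq_div_iff hb, ← map_mul, mul_comm, hc] }
  let eR : X.presheaf.stalk ξ ≃+* O :=
    RingEquiv.ofBijective eO.hom.rangeRestrict
      ⟨fun a b h => heO (congrArg Subtype.val h), eO.hom.rangeRestrict_surjective⟩
  let F := X.residueField ξ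
  letI : Algebra k F := (Curv2.resMap k X ξ).toAlgebra
  let res : O →+* F := (X.residue ξ).hom.comp eR.symm.toRingHom
  have hres0 : ∀ x : O, ¬ IsUnit x → res x = 0 := fun x hx =>
    (IsLocalRing.residue_eq_zero_iff _).2 fun h => hx (by simpa using h.map eR.toRingHom)
  have hkO : ∀ c : k, eO (Curv2.stalkMap k X ξ c) = algebraMap k K c := fun c => by
    show X.residue ηX (X.presheaf.stalkSpecializes hspX (X.presheaf.germ ⊤ ξ trivial _)) = _
    rw [TopCat.Presheaf.germ_stalkSpecializes_apply]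
    rfl
  have hk : ∀ c : k, algebraMap k K c ∈ O := fun c => ⟨_, hkO c⟩
  have hres : ∀ c : k, res ⟨algebraMap k K c, hk c⟩ = algebraMap k F c := fun c => by
    show X.residue ξ (eR.symm ⟨algebraMap k K c, hk c⟩) = _
    rw [show (⟨algebraMap k K c, hk c⟩ : O) = eR (Curv2.stalkMap k X ξ c) from Subtype.ext (hkO c).symm,
      eR.symm_apply_apply]
    rfl
  -- dimensions
  obtain ⟨n, hnd, hn⟩ := VarDimLib.closureDim_eq_trdeg k X ηX
  obtain ⟨m, hmd, hm⟩ := VarDimLib.closureDim_eq_trdeg k Y ηY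
  obtain ⟨e, hed, he⟩ := VarDimLib.closureDim_eq_trdeg k X ξ
  rw [← VarDimLib.dim_eq_closure_generic] at hnd hmd
  have hne : n ≤ e + 1 := by
    have h := FibDimLib.localDim_eq_closure_add_stalk sX ξ
    rw [FibDimLib.localDim_of_irreducible sX ξ, hnd, hed, hξ] at h
    exact_mod_cast h.le
  have hsurj : Function.Surjective res := fun y => by
    obtain ⟨a, rfl⟩ := X.residue_surjective ξ y
    exact ⟨eR a, congrArg (X.residue ξ) (eR.symm_apply_apply a)⟩
  obtain ⟨r, t, ht, hind, hmr⟩ := exists_independent_residues O res hres0 hk hres m n e hm hn he hne hsurj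
  -- sections
  choose Us hUs s hs using fun i : Fin r => exists_section_generic ηY rfl (t i)
  let Ut : Y.Opens := Finset.univ.inf Us
  have hUtle : ∀ i, Ut ≤ Us i := fun i => Finset.inf_le (Finset.mem_univ i)
  have hηUt : ηY ∈ Ut := by
    have : ∀ T : Finset (Fin r), ηY ∈ T.inf Us := fun T => by
      induction T using Finset.induction_on with
      | empty => exact trivial
      | insert a T _ ih => rw [Finset.inf_insert]; exact ⟨hUs a, ih⟩
    exact this _
  choose Ns hNs v hv using fun i : Fin r => TopCat.Presheaf.exists_germ_eq (F := X.presheaf) (eR.symm ⟨_, ht i⟩)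
  let N : X.Opens := Finset.univ.inf Ns
  have hNle : ∀ i, N ≤ Ns i := fun i => Finset.inf_le (Finset.mem_univ i)
  have hξN : ξ ∈ N := by
    have : ∀ T : Finset (Fin r), ξ ∈ T.inf Ns := fun T => by
      induction T using Finset.induction_on with
      | empty => exact trivial
      | insert a T _ ih => rw [Finset.inf_insert]; exact ⟨hNs a, ih⟩
    exact this _
  have hηN : ηX ∈ N := hspX.mem_open N.2 hξN
  let n' := ULift.{u} (Fin r)
  let A := 𝔸(n'; Spec (CommRingCat.of k))
  let σA : A ⟶ Spec (CommRingCat.of k) := A ↘ Spec (CommRingCat.of k)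
  let gT : Ut.toScheme ⟶ A :=
    AffineSpace.homOfVector (Ut.ι ≫ sY) fun i => Ut.topIso.inv (Y.presheaf.map (homOfLE (hUtle i.down)).op (s i.down))
  let hN' : N.toScheme ⟶ A :=
    AffineSpace.homOfVector (N.ι ≫ sX) fun i => N.topIso.inv (X.presheaf.map (homOfLE (hNle i.down)).op (v i.down))
  have hgT : gT ≫ σA = Ut.ι ≫ sY := AffineSpace.homOfVector_over _ _
  have hhN : hN' ≫ σA = N.ι ≫ sX := AffineSpace.homOfVector_over _ _
  haveI : LocallyOfFiniteType σA := inferInstance
  haveI : IsSeparated σA := inferInstance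
  haveI : QuasiCompact σA := inferInstance
  obtain ⟨Q, j, q, hj, -, hq, hjq⟩ := NagataCompLib.exists_compactification σA
  haveI := hj; haveI := hq
  -- the model
  haveI : Nonempty Ut := ⟨⟨ηY, hηUt⟩⟩
  haveI : IsReduced Ut.toScheme := inferInstance
  obtain ⟨G₀, π₀, gA₀, hπ₀, hπ₀i, hgA₀, hgA₀U⟩ :=
    AbRegExt.exists_graphClosure sY q Ut (gT ≫ j) (by rw [Category.assoc, hjq, AffineSpace.homOfVector_over])
  haveI := hπ₀; haveI := hπ₀i
  obtain ⟨G, c, hc, hG, hGi⟩ := ModifLib.exists_integral_closure π₀ Ut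
  haveI := hc; haveI := hG; haveI := hGi
  let π := c ≫ π₀
  haveI : IsProper π := inferInstanceAs (IsProper (c ≫ π₀))
  let gA := c ≫ gA₀
  have hgA : gA ≫ q = π ≫ sY := by simp only [gA, π, Category.assoc, hgA₀]
  haveI : IsIso (π ∣_ Ut) := hGi
  have hgAU : (π ⁻¹ᵁ Ut).ι ≫ gA = (π ∣_ Ut) ≫ gT ≫ j := by
    have e : (π ∣_ Ut) = (c ∣_ (π₀ ⁻¹ᵁ Ut)) ≫ (π₀ ∣_ Ut) := morphismRestrict_comp c π₀ Ut
    rw [e, Category.assoc, ← hgA₀U, morphismRestrict_ι_assoc]
    rfl
  have hπU : ((π ⁻¹ᵁ Ut : G.Opens) : Set G).Nonempty := by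
    obtain ⟨z, -⟩ := (π ∣_ Ut).surjective ⟨ηY, hηUt⟩
    exact ⟨z.1, z.2⟩
  let P : G.PartialIso Y :=
    { source := π ⁻¹ᵁ Ut
      dense_source := (π ⁻¹ᵁ Ut).2.dense hπU
      target := Ut
      dense_target := Ut.2.dense ⟨ηY, hηUt⟩
      iso := asIso (π ∣_ Ut) }
  -- the lifted rational map
  let W : X.Opens := f.domain.ι ''ᵁ (f.hom ⁻¹ᵁ Ut)
  have hηW : ηX ∈ W := ⟨ηd, show f.hom ηd ∈ Ut by rw [hfη]; exact hηUt, rfl⟩
  have hWle : W ≤ f.domain := by
    rintro _ ⟨z, -, rfl⟩; exact z.2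
  have hWU : ∀ z : W.toScheme, (X.homOfLE hWle ≫ f.hom) z ∈ Ut := fun z => by
    obtain ⟨z', hz', e⟩ := z.2
    rw [Scheme.Hom.comp_apply, show X.homOfLE hWle z = z' from Subtype.ext ((by simp : (X.homOfLE hWle z).1 = z.1).trans e.symm)]
    exact hz'
  let wU : W.toScheme ⟶ Ut.toScheme := WeilExtLib.resTo Ut (X.homOfLE hWle ≫ f.hom) hWU
  have hwU : wU ≫ Ut.ι = X.homOfLE hWle ≫ f.hom := WeilExtLib.resTo_ι _ _ _
  let gW : W.toScheme ⟶ G := wU ≫ inv (π ∣_ Ut) ≫ (π ⁻¹ᵁ Ut).ι
  have hgW : gW ≫ π = X.homOfLE hWle ≫ f.hom := by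
    simp only [gW, Category.assoc]
    rw [← morphismRestrict_ι, IsIso.inv_hom_id_assoc, hwU]
  haveI : IsReduced X := inferInstance
  obtain ⟨Ug, hWUg, g', hg', hg'W, hcodim⟩ := WeilExtLib.exists_extend_proper (π ≫ sY) sX
    (fun y hy => haveI := (hXn y).1; haveI := (hXn y).2; MiscFlat6.isRegularLocalRing_of_normal_dim_le_one _ hy)
    W (W.2.dense ⟨_, hηW⟩) gW (by rw [← Category.assoc, hgW, Category.assoc, hf, Scheme.homOfLE_ι_assoc])
  have hξU : ξ ∈ Ug := hcodim ξ hξ.le
  refine ⟨G, π ≫ sY, inferInstance, hG, π, rfl, P, morphismRestrict_ι π Ut,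
    ⟨Ug, Ug.2.dense ⟨_, hξU⟩, g'⟩, hg', ?_, hξU, ?_⟩
  · rw [Scheme.PartialMap.toRationalMap_eq_iff]
    refine ⟨W, W.2.dense ⟨_, hηW⟩, hWUg, hWle, ?_⟩
    show X.homOfLE hWUg ≫ g' ≫ π = X.homOfLE hWle ≫ f.hom
    rw [← Category.assoc, hg'W, hgW]
  -- the two maps to the compactified affine space agree
  let M : X.Opens := W ⊓ N
  have hηM : ηX ∈ M := ⟨hηW, hηN⟩
  have hagree : X.homOfLE (inf_le_left : M ≤ W) ≫ wU ≫ gT = X.homOfLE (inf_le_right : M ≤ N) ≫ hN' := by
    let pM : Spec (CommRingCat.of K) ⟶ M.toScheme := WeilExtLib.resTo M (X.fromSpecResidueField ηX)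
      fun z => by erw [Scheme.fromSpecResidueField_apply]; exact hηM
    have hpM : pM ≫ M.ι = X.fromSpecResidueField ηX := WeilExtLib.resTo_ι _ _ _
    haveI : IsDominant pM := ⟨by
      refine dense_iff_closure_eq.2 (Set.eq_univ_of_forall fun z => ?_)
      have h1 : pM (IsLocalRing.closedPoint K) = (⟨ηX, hηM⟩ : M.toScheme) := Subtype.ext (by
        rw [← Scheme.Opens.ι_apply, ← Scheme.Hom.comp_apply, hpM]
        exact Scheme.fromSpecResidueField_apply ηX _)
      have h2 : (⟨ηX, hηM⟩ : M.toScheme) ⤳ z :=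
        (subtype_specializes_iff _ z).2 ((genericPoint_spec X).specializes trivial)
      exact closure_mono (Set.singleton_subset_iff.2 (Set.mem_range_self (IsLocalRing.closedPoint K)))
        (h1 ▸ h2.mem_closure)⟩
    refine ext_of_isDominant_of_isSeparated σA ?_ pM ?_
    · rw [Category.assoc, Category.assoc, hgT, Category.assoc, hhN, reassoc_of% hwU, hf]
      simp only [Scheme.homOfLE_ι_assoc]
    refine AffineSpace.hom_ext ?_ fun i => ?_
    · show (pM ≫ _ ≫ wU ≫ gT) ≫ σA = (pM ≫ _ ≫ hN') ≫ σA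
      rw [Category.assoc, Category.assoc, Category.assoc, hgT, Category.assoc, Category.assoc, hhN, reassoc_of% hwU, hf]
      simp only [Scheme.homOfLE_ι_assoc]
    · have h1 : (pM ≫ X.homOfLE (inf_le_left : M ≤ W) ≫ wU) ≫ Ut.ι = Spec.map ι₀ ≫ Y.fromSpecResidueField ηY := by
        rw [hι₀, Category.assoc, Category.assoc, hwU, Scheme.homOfLE_homOfLE_assoc, ← Category.assoc]
        congr 1
        rw [← cancel_mono f.domain.ι, Category.assoc, Scheme.homOfLE_ι, hpM, hpη]
      have h2 : (pM ≫ X.homOfLE (inf_le_right : M ≤ N)) ≫ N.ι =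
          Spec.map (𝟙 (X.residueField ηX)) ≫ X.fromSpecResidueField ηX := by
        rw [Category.assoc, Scheme.homOfLE_ι, hpM, Spec.map_id, Category.id_comp]
      rw [show pM ≫ X.homOfLE (inf_le_left : M ≤ W) ≫ wU ≫ gT =
          (pM ≫ X.homOfLE (inf_le_left : M ≤ W) ≫ wU) ≫ gT from by simp only [Category.assoc],
        show pM ≫ X.homOfLE (inf_le_right : M ≤ N) ≫ hN' = (pM ≫ X.homOfLE (inf_le_right : M ≤ N)) ≫ hN' from
          (Category.assoc _ _ _).symm, Scheme.Hom.comp_appTop _ gT, Scheme.Hom.comp_appTop _ hN', CommRingCat.comp_apply,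
        CommRingCat.comp_apply, AffineSpace.homOfVector_appTop_coord, AffineSpace.homOfVector_appTop_coord,
        appTop_point hηUt ι₀ _ h1]
      erw [appTop_point hηN (𝟙 _) _ h2, evaluation_res, evaluation_res, hs]
      refine congrArg _ ?_
      have h3 : eO (eR.symm ⟨_, ht i.down⟩) = algebraMap L K (t i.down) :=
        congrArg Subtype.val (eR.apply_symm_apply ⟨_, ht i.down⟩)
      refine h3.symm.trans ?_
      rw [← hv i.down]
      show X.residue ηX (X.presheaf.stalkSpecializes hspX _) = _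
      rw [TopCat.Presheaf.germ_stalkSpecializes_apply]
      rfl
  -- the centre lies over the generic point of affine space
  let M' : X.Opens := Ug ⊓ N
  have hξM : ξ ∈ M' := ⟨hξU, hξN⟩
  have hext : X.homOfLE (inf_le_left : M' ≤ Ug) ≫ g' ≫ gA = X.homOfLE (inf_le_right : M' ≤ N) ≫ hN' ≫ j := by
    have hMM' : M ≤ M' := inf_le_inf_right N hWUg
    haveI : Nonempty M' := ⟨⟨_, hξM⟩⟩
    haveI : IsIntegral M'.toScheme := isIntegral_of_isOpenImmersion M'.ι
    have hcomp : ∀ {A' : X.Opens} (le : A' ≤ Ug), X.homOfLE le ≫ g' ≫ π ≫ sY = A'.ι ≫ sX := fun le => by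
      rw [hg', Scheme.homOfLE_ι_assoc]
    refine AbRegExt.ext_of_dense q (U := M'.ι ⁻¹ᵁ M) ((M'.ι ⁻¹ᵁ M).2.dense ⟨⟨ηX, hMM' hηM⟩, hηM⟩) ?_ ?_
    · simp only [Category.assoc, hgA, hjq]
      rw [hcomp, hhN]
      simp only [Scheme.homOfLE_ι_assoc]
    · let ν : (M'.ι ⁻¹ᵁ M).toScheme ⟶ M.toScheme := WeilExtLib.resTo M ((M'.ι ⁻¹ᵁ M).ι ≫ M'.ι) fun z => z.2
      have hν : (M'.ι ⁻¹ᵁ M).ι = ν ≫ X.homOfLE hMM' := by
        rw [← cancel_mono M'.ι, Category.assoc, Scheme.homOfLE_ι, WeilExtLib.resTo_ι]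
      rw [hν]
      simp only [Category.assoc, Scheme.homOfLE_homOfLE_assoc]
      congr 1
      have e1 : X.homOfLE (le_trans hMM' inf_le_left : M ≤ Ug) ≫ g' = X.homOfLE (inf_le_left : M ≤ W) ≫ gW := by
        rw [← hg'W, Scheme.homOfLE_homOfLE_assoc]
      rw [← Category.assoc, e1]
      simp only [gW, Category.assoc, hgAU, IsIso.inv_hom_id_assoc]
      exact (reassoc_of% hagree) j
  have hh : hN' ⟨ξ, hξN⟩ = (AffineSpace.SpecIso n' (CommRingCat.of k)).inv
      (⟨⊥, Ideal.isPrime_bot⟩ : PrimeSpectrum (MvPolynomial n' k)) := by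
    let pξ : Spec (X.residueField ξ) ⟶ N.toScheme := WeilExtLib.resTo N (X.fromSpecResidueField ξ)
      fun z => by erw [Scheme.fromSpecResidueField_apply]; exact hξN
    have hpξ : pξ ≫ N.ι = X.fromSpecResidueField ξ := WeilExtLib.resTo_ι _ _ _
    have h1 : pξ (IsLocalRing.closedPoint F) = ⟨ξ, hξN⟩ := Subtype.ext (by
      rw [← Scheme.Opens.ι_apply, ← Scheme.Hom.comp_apply, hpξ]
      exact Scheme.fromSpecResidueField_apply ξ _)
    rw [← h1, ← Scheme.Hom.comp_apply]
    refine apply_eq_of_algebraicIndependent (F := F) _ (hind.comp (fun i : n' => i.down) ULift.down_injective) _ ?_ fun i => ?_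
    · simp only [hN', Category.assoc, AffineSpace.homOfVector_over]
      rw [← Category.assoc, hpξ]
      exact (GeomIrrLib.specMap_resMap (k := k) ξ).symm
    · rw [Scheme.Hom.comp_appTop, CommRingCat.comp_apply, AffineSpace.homOfVector_appTop_coord]
      erw [appTop_point hξN (𝟙 _) pξ (by erw [hpξ, Spec.map_id, Category.id_comp]), evaluation_res]
      refine congrArg _ ?_
      show X.residue ξ (X.presheaf.germ (Ns i.down) ξ (hNs i.down) (v i.down)) = _
      rw [hv]
      rfl
  let y' := g' ⟨ξ, hξU⟩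
  have hy' : gA y' = j (hN' ⟨ξ, hξN⟩) := by
    have h := congr($(hext).base ⟨ξ, hξM⟩)
    have e : ∀ {A B : X.Opens} (le : A ≤ B) (z : A.toScheme), X.homOfLE le z = ⟨z.1, le z.2⟩ :=
      fun le z => Subtype.ext (by simp)
    simp only [Scheme.Hom.comp_apply, e] at h
    exact h
  rw [hh] at hy'
  obtain ⟨a, b, hab⟩ : ∃ a : ℕ, ∃ b : ℕ, topologicalKrullDim (closure ({y'} : Set G)) = a ∧
      ringKrullDim (G.presheaf.stalk y') = b := by
    letI : G.Over (Spec (CommRingCat.of k)) := ⟨π ≫ sY⟩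
    haveI : LocallyOfFiniteType (G ↘ Spec (CommRingCat.of k)) := inferInstanceAs (LocallyOfFiniteType (π ≫ sY))
    obtain ⟨a, ha, -⟩ := VarDimLib.closureDim_eq_trdeg k G y'
    haveI : IsLocallyNoetherian G := LocallyOfFiniteType.isLocallyNoetherian (π ≫ sY)
    obtain ⟨b, hb⟩ := CommAlgDim.exists_ringKrullDim_eq (R := G.presheaf.stalk y')
    exact ⟨a, b, ha, hb⟩
  have hra : r ≤ a := by
    haveI : LocallyOfFiniteType (gA ≫ q) := by rw [hgA]; infer_instance
    haveI : LocallyOfFiniteType gA := locallyOfFiniteType_of_comp gA q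
    have h2 := FibDimLib.topologicalKrullDim_closure_eq_add q gA y'
    obtain ⟨c', hc'⟩ := UOpenLib.exists_fibreClosureDim_eq_nat gA y'
    rw [hab.1, hy', hc'] at h2
    let z₀ : A := (AffineSpace.SpecIso n' (CommRingCat.of k)).inv (⟨⊥, Ideal.isPrime_bot⟩ : PrimeSpectrum (MvPolynomial n' k))
    have h4 : topologicalKrullDim (closure ({z₀} : Set A)) ≤ topologicalKrullDim (closure ({j z₀} : Set Q)) := by
      rw [j.isOpenEmbedding.isEmbedding.closure_eq_preimage_closure_image, Set.image_singleton]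
      exact (j.isOpenEmbedding.isEmbedding.isInducing.restrictPreimage (closure {j z₀})).topologicalKrullDim_le
    have h5 : (r : WithBot ℕ∞) ≤ a :=
      (le_dim_closure_generic r).trans (h4.trans (h2 ▸ le_add_of_nonneg_right (by exact_mod_cast Nat.zero_le c')))
    exact_mod_cast h5
  have hG : topologicalKrullDim G = m := by
    rw [← VarDimLib.dim_open_eq (π ≫ sY) (π ⁻¹ᵁ Ut) hπU, ← hmd,
      ← VarDimLib.dim_open_eq sY Ut ⟨ηY, hηUt⟩]
    exact IsHomeomorph.topologicalKrullDim_eq _ (Scheme.homeoOfIso (asIso (π ∣_ Ut))).isHomeomorph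
  have hsum : a + b = m := by
    have h := FibDimLib.localDim_eq_closure_add_stalk (π ≫ sY) y'
    rw [FibDimLib.localDim_of_irreducible (π ≫ sY) y', hG, hab.1, hab.2] at h
    exact_mod_cast h.symm
  show ringKrullDim (G.presheaf.stalk y') ≤ 1
  rw [hab.2]
  have : b ≤ 1 := by omega
  exact_mod_cast this

end DivCentre
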