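import Mathlib.RingTheory.AlgebraicIndependent.TranscendenceBasis
import Mathlib.RingTheory.Valuation.ValuationSubring
import Mathlib.FieldTheory.IntermediateField.Basic

/-!
# Residue transcendence degree of a place on a subfield
-/

set_option autoImplicit false

universe u

namespace DivCentre

open Cardinal

variable {k L K F : Type u} [Field k] [Field L] [Field K] [Field F] [Algebra k L] [Algebra k K] [Algebra L K]
  [IsScalarTower k L K] [Algebra k F]

/-- The inclusion of the trace of a valuation ring on a subfield. -/
def traceHom (O : ValuationSubring K) : O.comap (algebraMap L K) →+* O where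
  toFun x := ⟨algebraMap L K x.1, x.2⟩
  map_one' := Subtype.ext (map_one _)
  map_mul' _ _ := Subtype.ext (map_mul _ _ _)
  map_zero' := Subtype.ext (map_zero _)
  map_add' _ _ := Subtype.ext (map_add _ _ _)

/-- If the residue field of a place of `K` has corank at most one, so has that of its trace on a subfield `L`:
there are elements of `L` in the valuation ring with algebraically independent residues. -/
theorem exists_independent_residues (O : ValuationSubring K) (res : O →+* F)
    (hres0 : ∀ x : O, ¬ IsUnit x → res x = 0)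
    (hk : ∀ c : k, algebraMap k K c ∈ O) (hres : ∀ c : k, res ⟨algebraMap k K c, hk c⟩ = algebraMap k F c)
    (m n f : ℕ) (hm : Algebra.trdeg k L = m) (hn : Algebra.trdeg k K = n) (hF : Algebra.trdeg k F = f)
    (hnf : n ≤ f + 1) (hsurj : Function.Surjective res) :
    ∃ (r : ℕ) (t : Fin r → L) (ht : ∀ i, algebraMap L K (t i) ∈ O),
      AlgebraicIndependent k (fun i => res ⟨algebraMap L K (t i), ht i⟩) ∧ m ≤ r + 1 := by
  classical
  let j := traceHom (L := L) O
  let r0 : O.comap (algebraMap L K) →+* F := res.comp j
  have hr0 : ∀ c : k, ∃ a, r0 a = algebraMap k F c := fun c => by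
    refine ⟨⟨algebraMap k L c, ?_⟩, ?_⟩
    · show algebraMap L K (algebraMap k L c) ∈ O
      rw [← IsScalarTower.algebraMap_apply]; exact hk c
    · rw [← hres c]
      exact congrArg res (Subtype.ext (IsScalarTower.algebraMap_apply k L K c).symm)
  let S : Subalgebra k F := { r0.range with algebraMap_mem' := hr0 }
  let F₀ : IntermediateField k F := Subalgebra.toIntermediateField S fun x hx => by
    obtain ⟨a, rfl⟩ := hx
    by_cases ha : IsUnit (j a)
    · obtain ⟨b, hb⟩ := ha.exists_right_inv
      have hab : algebraMap L K a.1 * b.1 = 1 := congrArg Subtype.val hb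
      have hinv : algebraMap L K a.1⁻¹ = b.1 := by
        rw [map_inv₀, inv_eq_of_mul_eq_one_right hab]
      refine ⟨⟨a.1⁻¹, show algebraMap L K a.1⁻¹ ∈ O from hinv ▸ b.2⟩, ?_⟩
      refine eq_inv_of_mul_eq_one_left ?_
      show res (j ⟨a.1⁻¹, _⟩) * res (j a) = 1
      rw [← map_mul, ← map_one res]
      refine congrArg res (Subtype.ext ?_)
      show algebraMap L K a.1⁻¹ * algebraMap L K a.1 = 1
      rw [hinv, mul_comm]; exact hab
    · have : r0 a = 0 := hres0 _ ha
      rw [this, inv_zero]; exact S.zero_mem
  -- residues outside give elements independent over the subfield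
  obtain ⟨w, hw⟩ := exists_isTranscendenceBasis F₀ F
  obtain ⟨s, hs⟩ := exists_isTranscendenceBasis k F₀
  have h1 : Algebra.trdeg k F₀ + Algebra.trdeg F₀ F = Algebra.trdeg k F := trdeg_add_eq k F₀ (A := F)
  have h2 : Algebra.trdeg k L + Algebra.trdeg L K = Algebra.trdeg k K := trdeg_add_eq k L (A := K)
  rw [hF] at h1
  rw [hm, hn] at h2
  obtain ⟨a, ha⟩ := Cardinal.lt_aleph0.1
    (lt_of_le_of_lt (le_self_add.trans h1.le) (Cardinal.natCast_lt_aleph0 (n := f)))
  obtain ⟨b, hb⟩ := Cardinal.lt_aleph0.1
    (lt_of_le_of_lt (le_add_self.trans h1.le) (Cardinal.natCast_lt_aleph0 (n := f)))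
  obtain ⟨c, hc⟩ := Cardinal.lt_aleph0.1
    (lt_of_le_of_lt (le_add_self.trans h2.le) (Cardinal.natCast_lt_aleph0 (n := n)))
  rw [ha, hb, ← Nat.cast_add, Nat.cast_inj] at h1
  rw [hc, ← Nat.cast_add, Nat.cast_inj] at h2
  have hbc : b ≤ c := by
    choose W hW using fun x : w => hsurj x.1
    have hWind : AlgebraicIndependent L fun x : w => (W x : K) := by
      rw [algebraicIndependent_iff]
      intro p hp
      by_contra hp0
      obtain ⟨m₀, hm₀, hmax⟩ := Finset.exists_max_image p.support
        (fun i => O.valuation (algebraMap L K (p.coeff i))) (MvPolynomial.support_nonempty.2 hp0)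
      let c₀ := p.coeff m₀
      have hc₀ : c₀ ≠ 0 := MvPolynomial.mem_support_iff.1 hm₀
      have hc₀' : algebraMap L K c₀ ≠ 0 := (_root_.map_ne_zero _).2 hc₀
      have hmem : ∀ i ∈ p.support, algebraMap L K (p.coeff i / c₀) ∈ O := fun i hi => by
        rw [← O.valuation_le_one_iff, map_div₀, map_div₀]
        exact div_le_one_of_le₀ (hmax i hi) zero_le
      let A : p.support → O.comap (algebraMap L K) := fun i => ⟨p.coeff i.1 / c₀, hmem i.1 i.2⟩
      let q : MvPolynomial w F₀ := ∑ i : p.support, MvPolynomial.monomial i.1 ⟨r0 (A i), A i, rfl⟩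
      have hq : q ≠ 0 := by
        intro hq
        have h := congrArg (MvPolynomial.coeff m₀) hq
        rw [MvPolynomial.coeff_zero, MvPolynomial.coeff_sum, Finset.sum_eq_single ⟨m₀, hm₀⟩] at h
        · rw [MvPolynomial.coeff_monomial, if_pos rfl] at h
          have h' : r0 (A ⟨m₀, hm₀⟩) = 0 := congrArg Subtype.val h
          have : A ⟨m₀, hm₀⟩ = 1 := Subtype.ext (div_self hc₀)
          rw [this, map_one] at h'
          exact one_ne_zero h'
        · intro i _ hi
          rw [MvPolynomial.coeff_monomial, if_neg fun h => hi (Subtype.ext h)]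
        · exact fun h => absurd (Finset.mem_univ _) h
      refine hq (algebraicIndependent_iff.1 hw.1 q ?_)
      let Sg : O := ∑ i : p.support, j (A i) * i.1.prod fun x e => W x ^ e
      have hres' : MvPolynomial.aeval (fun x : w => (x : F)) q = res Sg := by
        rw [map_sum, map_sum]
        refine Finset.sum_congr rfl fun i _ => ?_
        rw [MvPolynomial.aeval_monomial, map_mul]
        refine congrArg₂ (· * ·) rfl ?_
        rw [Finsupp.prod, Finsupp.prod, map_prod]
        refine Finset.prod_congr rfl fun x _ => ?_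
        rw [map_pow, hW]
      have hzero : (Sg : K) = 0 := by
        have e : (Sg : K) = (algebraMap L K c₀)⁻¹ * MvPolynomial.aeval (fun x : w => (W x : K)) p := by
          rw [MvPolynomial.aeval_def, MvPolynomial.eval₂_eq, Finset.mul_sum]
          rw [show (Sg : K) = ∑ i : p.support, ((j (A i) * i.1.prod fun x e => W x ^ e : O) : K) from map_sum O.subtype _ _]
          rw [← Finset.sum_coe_sort p.support]
          refine Finset.sum_congr rfl fun i _ => ?_
          show algebraMap L K (p.coeff i.1 / c₀) * _ = _
          rw [map_div₀]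
          rw [show ((i.1.prod fun x e => W x ^ e : O) : K) = ∏ x ∈ i.1.support, (W x : K) ^ i.1 x from by
            rw [Finsupp.prod]; exact (map_prod O.subtype _ _).trans (Finset.prod_congr rfl fun x _ => map_pow O.subtype _ _)]
          field_simp
        rw [e, hp, mul_zero]
      rw [hres', show Sg = 0 from Subtype.ext hzero, map_zero]
    have h := hWind.cardinalMk_le_trdeg
    rw [hw.cardinalMk_eq_trdeg, hb, hc] at h
    exact_mod_cast h
  haveI : Finite s := Cardinal.lt_aleph0_iff_finite.1 (by
    rw [hs.cardinalMk_eq_trdeg, ha]; exact Cardinal.natCast_lt_aleph0)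
  have hcard : Nat.card s = a := by
    rw [Nat.card, hs.cardinalMk_eq_trdeg, ha, Cardinal.toNat_natCast]
  let e := (Finite.equivFinOfCardEq hcard).symm
  have hpre : ∀ i, ∃ z, r0 z = ((e i).1 : F) := fun i => (e i).1.2
  choose z hz using hpre
  refine ⟨a, fun i => (z i).1, fun i => (z i).2, ?_, by omega⟩
  have hind : AlgebraicIndependent k fun i => ((e i).1 : F) :=
    (hs.1.map' (f := F₀.val) F₀.val.injective).comp e e.injective
  convert hind using 1
  funext i
  exact hz i

end DivCentre
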